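import Cfsg.Agent.Chars.Apps.PPrimeDegree
import Cfsg.Agent.Chars.Induced.Ito
import Cfsg.Agent.Solvable.MinNormal
import Mathlib.GroupTheory.Solvable

/-!
# Character degrees prime to `p` in solvable groups (Ito)
-/

set_option autoImplicit false

namespace CfsgLib.ItoMichler

open Cfsg CfsgLib.Chars CfsgLib.Chars.Induced

universe u

/-- A group is trivial at an element killed by all irreducible characters. -/
theorem eq_one_of_forall_irr {G : Type u} [Group G] [Finite G] {g : G}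
    (h : ∀ χ : IrrCharacter G, (χ : G → ℂ) g = (χ : G → ℂ) 1) : g = 1 := by
  rw [← Subgroup.mem_bot, ← iInf_charKer_eq_bot, Subgroup.mem_iInf]
  exact fun χ => (mem_charKer_iff (isCharacter_coe χ)).2 (h χ)

theorem comm_of_linear {G : Type u} [Group G] [Finite G]
    (h : ∀ χ : IrrCharacter G, charDegree (χ : G → ℂ) = 1) (a b : G) : a * b = b * a := by
  have : a * b * (b * a)⁻¹ = 1 := eq_one_of_forall_irr fun χ => by
    obtain ⟨l, rfl⟩ := exists_linChar_eq χ ((charDegree_eq_one_iff χ).1 (h χ))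
    simp [linChar_apply]
    field_simp
  exact mul_inv_eq_one.1 this

variable {p : ℕ} [Fact p.Prime]

theorem not_dvd_constituent {G : Type u} [Group G] [Fintype G] (N : Subgroup G) [N.Normal]
    [Fintype N] (h : ∀ χ : IrrCharacter G, ¬ p ∣ charDegree (χ : G → ℂ)) (θ : IrrCharacter N) :
    ∃ χ : IrrCharacter G, mult (fun n : N => (χ : G → ℂ) n) θ ≠ 0 ∧
      ¬ p ∣ charDegree (θ : N → ℂ) ∧ ¬ p ∣ (inertia N (θ : N → ℂ)).index := by
  obtain ⟨χ, hχ⟩ := exists_mult_ne_zero (isCharacter_indFun N (isCharacter_coe θ)) (fun h0 => by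
    have h1 := congrFun h0 1
    rw [indFun_one_apply, Pi.zero_apply, mul_eq_zero] at h1
    rcases h1 with h1 | h1
    · exact Subgroup.index_ne_zero_of_finite (Nat.cast_eq_zero.1 h1)
    · exact map_one_ne_zero θ h1)
  rw [mult_indFun_irr] at hχ
  refine ⟨χ, hχ, ?_⟩
  have hcl := clifford_one χ θ hχ
  rw [← coe_charDegree χ, ← coe_charDegree θ] at hcl
  have hcl' : charDegree (χ : G → ℂ) = mult (fun n : N => (χ : G → ℂ) n) θ *
      (inertia N (θ : N → ℂ)).index * charDegree (θ : N → ℂ) := by exact_mod_cast hcl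
  constructor <;> intro hd <;> apply h χ <;> rw [hcl']
  · exact dvd_mul_of_dvd_right hd _
  · exact dvd_mul_of_dvd_left (dvd_mul_of_dvd_right hd _) _

theorem comm_of_normal_sylow {G : Type u} [Group G] [Finite G] (P : Subgroup G) [P.Normal]
    (hP : IsPGroup p P) (h : ∀ χ : IrrCharacter G, ¬ p ∣ charDegree (χ : G → ℂ)) :
    ∀ x ∈ P, ∀ y ∈ P, x * y = y * x := by
  classical
  have := Fintype.ofFinite G
  have := Fintype.ofFinite P
  intro x hx y hy
  refine congrArg Subtype.val (comm_of_linear (G := P) (fun θ => ?_) ⟨x, hx⟩ ⟨y, hy⟩)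
  obtain ⟨-, -, hθ, -⟩ := not_dvd_constituent P h θ
  exact CfsgLib.Chars.Apps.charDegree_eq_one_of_isPGroup hP θ hθ

/-- `P` centralizes a normal abelian `p'`-subgroup `M` when `P ⊔ M` is normal. -/
theorem le_centralizer_of_degrees {G : Type u} [Group G] [Finite G] (M : Subgroup G) [M.Normal]
    (hM : ∀ a ∈ M, ∀ b ∈ M, a * b = b * a) (P : Subgroup G) (hP : IsPGroup p P)
    [hH : (P ⊔ M).Normal] (h : ∀ χ : IrrCharacter G, ¬ p ∣ charDegree (χ : G → ℂ)) :
    ∀ s ∈ P, ∀ m ∈ M, s * m = m * s := by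
  classical
  have := Fintype.ofFinite G
  have := Fintype.ofFinite M
  haveI : IsMulCommutative M := ⟨⟨fun a b => Subtype.ext (hM _ a.2 _ b.2)⟩⟩
  have hinv : ∀ θ : IrrCharacter M, P ≤ inertia M (θ : M → ℂ) := by
    intro θ
    obtain ⟨-, -, -, hidx⟩ := not_dvd_constituent M h θ
    obtain ⟨η, ⟨x, rfl⟩, hη⟩ := CfsgLib.Chars.Apps.exists_fixed_in_conjOrbit P hP θ hidx
    have hMle : M ≤ inertia M (conjIrr x θ : M → ℂ) := le_inertia (isClassFunction_coe _)
    intro s hs
    have hs' : x * s * x⁻¹ ∈ P ⊔ M := hH.conj_mem s (Subgroup.mem_sup_left hs) x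
    have hmem := sup_le hη hMle hs'
    rw [mem_inertia] at hmem ⊢
    rw [conjIrr_coe, ← conjFun_mul, show x * s * x⁻¹ * x = x * s by group, conjFun_mul] at hmem
    have h2 := congrArg (conjFun M x⁻¹) hmem
    rw [← conjFun_mul, ← conjFun_mul, inv_mul_cancel, one_mul, ← conjFun_mul, inv_mul_cancel, conjFun_one] at h2
    exact h2
  intro s hs m hm
  let m' : M := ⟨s * m * s⁻¹ * m⁻¹, mul_mem (Subgroup.Normal.conj_mem ‹_› m hm s) (inv_mem hm)⟩
  suffices m' = 1 by
    have h1 : s * m * s⁻¹ * m⁻¹ = 1 := congrArg Subtype.val this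
    exact mul_inv_eq_iff_eq_mul.1 (mul_inv_eq_one.1 h1)
  refine eq_one_of_forall_irr fun θ => ?_
  obtain ⟨l, rfl⟩ := exists_linChar_eq θ (map_one_eq_one_of_isMulCommutative θ)
  let sm : M := ⟨s * m * s⁻¹, Subgroup.Normal.conj_mem ‹_› m hm s⟩
  have h1 := mem_inertia_iff_forall.1 (hinv (linChar l) hs) ⟨m, hm⟩ sm rfl
  simp only [linChar_apply] at h1 ⊢
  rw [show m' = sm * ⟨m, hm⟩⁻¹ from rfl, map_mul, map_inv, Units.ext h1, mul_inv_cancel, map_one]

theorem normal_sylow {G : Type u} [Group G] [Finite G] (hsolv : Group.IsSolvable G)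
    (h : ∀ χ : IrrCharacter G, ¬ p ∣ charDegree (χ : G → ℂ)) :
    ∃ P : Sylow p G, (P : Subgroup G).Normal := by
  classical
  suffices key : ∀ (n : ℕ) (H : Type u) [Group H] [Finite H], Nat.card H = n →
      Group.IsSolvable H → (∀ χ : IrrCharacter H, ¬ p ∣ charDegree (χ : H → ℂ)) →
      ∃ P : Sylow p H, (P : Subgroup H).Normal from key _ G rfl hsolv h
  clear h hsolv
  intro n
  induction n using Nat.strong_induction_on with
  | _ n ih =>
  intro H _ _ hn hsolv h
  rcases subsingleton_or_nontrivial H with hs | hnt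
  · exact ⟨default, ⟨fun a ha g => by rw [Subsingleton.elim (g * a * g⁻¹) a]; exact ha⟩⟩
  have hsT : Group.IsSolvable (⊤ : Subgroup H) := inferInstance
  obtain ⟨M, q, k, -, hMn, hMne, -, hM⟩ :=
    CfsgLib.Solvable.exists_minimal_normal_elementary_le (⊤ : Subgroup H) hsT top_ne_bot
  obtain ⟨hMab, hq, -, hMcard, -⟩ := hM
  have := hMn
  have := Fintype.ofFinite H
  have hlt : Nat.card (H ⧸ M) < n := by
    rw [← hn, ← M.index_mul_card, ← Subgroup.index_eq_card]
    refine lt_mul_of_one_lt_right (Nat.pos_of_ne_zero Subgroup.index_ne_zero_of_finite) ?_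
    exact (Subgroup.one_lt_card_iff_ne_bot M).2 hMne
  obtain ⟨Qb, hQb⟩ := ih _ hlt (H ⧸ M) rfl inferInstance fun β => by
    have h1 := h ⟨_, isIrrCharacter_quotient_lift β⟩
    exact fun hd => h1 (by simpa [charDegree] using hd)
  obtain ⟨P⟩ : Nonempty (Sylow p H) := inferInstance
  haveI hsup : ((P : Subgroup H) ⊔ M).Normal := by
    let Pb : Sylow p (H ⧸ M) := P.mapSurjective (QuotientGroup.mk'_surjective M)
    have hPb : ((P : Subgroup H).map (QuotientGroup.mk' M)).Normal := by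
      letI := Sylow.unique_of_normal Qb hQb
      show (Pb : Subgroup (H ⧸ M)).Normal
      rw [Subsingleton.elim Pb Qb]; exact hQb
    have := hPb.comap (QuotientGroup.mk' M)
    rwa [Subgroup.comap_map_eq, QuotientGroup.ker_mk'] at this
  refine ⟨P, ?_⟩
  rcases eq_or_ne q p with rfl | hqp
  · have hMp : IsPGroup q M := IsPGroup.of_card hMcard
    have hle : (P : Subgroup H) ⊔ M = P := by
      refine (P.is_maximal' ?_ le_sup_left)
      rw [sup_comm]
      exact hMp.to_sup_of_normal_left P.2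
    rwa [hle] at hsup
  have hMp' : ¬ p ∣ Nat.card M := by
    rw [hMcard]
    exact fun hd => hqp ((Nat.prime_dvd_prime_iff_eq Fact.out hq).1
      ((Fact.out : p.Prime).dvd_of_dvd_pow hd)).symm
  have hcent := le_centralizer_of_degrees M
    (fun a ha b hb => congrArg Subtype.val (hMab.is_comm.comm ⟨a, ha⟩ ⟨b, hb⟩)) P P.2 h
  refine ⟨fun a ha g => ?_⟩
  have hga : g * a * g⁻¹ ∈ (P : Subgroup H) ⊔ M := hsup.conj_mem a (Subgroup.mem_sup_left ha) g
  rw [← SetLike.mem_coe, Subgroup.mul_normal] at hga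
  obtain ⟨s, hs, m, hm, e⟩ := hga
  have e' : s * m = g * a * g⁻¹ := e
  obtain ⟨j, hj⟩ := P.2 ⟨a, ha⟩
  obtain ⟨i, hi⟩ := P.2 ⟨s, hs⟩
  have hjq : a ^ p ^ j = 1 := congrArg Subtype.val hj
  have hiq : s ^ p ^ i = 1 := congrArg Subtype.val hi
  have hm1 : m = 1 := by
    have hc : Commute s m := hcent s hs m hm
    have e2 : m ^ p ^ (i + j) = 1 := by
      have h1 : (s * m) ^ p ^ (i + j) = 1 := by
        rw [e', conj_pow, pow_add, mul_comm, pow_mul, hjq, one_pow, mul_one, mul_inv_cancel]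
      rwa [hc.mul_pow, pow_add p i j, pow_mul s, hiq, one_pow, one_mul, ← pow_add] at h1
    apply orderOf_eq_one_iff.1
    exact Nat.eq_one_of_dvd_coprimes (Nat.Coprime.pow_left _ ((Fact.out : p.Prime).coprime_iff_not_dvd.2 hMp'))
      (orderOf_dvd_of_pow_eq_one e2) (Subgroup.orderOf_dvd_natCard _ hm)
  rw [← e', hm1, mul_one]
  exact hs

theorem main {G : Type u} [Group G] [Finite G] (hsolv : Group.IsSolvable G) :
    (∃ P : Subgroup G, P.Normal ∧ (∀ x ∈ P, ∀ y ∈ P, x * y = y * x) ∧ IsPGroup p P ∧ ¬ p ∣ P.index) ↔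
      ∀ χ : IrrCharacter G, ¬ p ∣ charDegree (χ : G → ℂ) := by
  constructor
  · rintro ⟨P, hn, hc, -, hidx⟩ χ hd
    haveI := hn
    haveI : IsMulCommutative P := ⟨⟨fun a b => Subtype.ext (hc _ a.2 _ b.2)⟩⟩
    exact hidx (hd.trans (ito P χ))
  · intro h
    obtain ⟨P, hP⟩ := normal_sylow hsolv h
    haveI := hP
    exact ⟨P, hP, comm_of_normal_sylow (P : Subgroup G) P.2 h, P.2, P.not_dvd_index⟩

end CfsgLib.ItoMichler
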